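import Cfsg.Agent.Lib.Classical.TensorMax.Entries
import Cfsg.Agent.Lib.Classical.Transvection

set_option autoImplicit false
set_option linter.unusedSectionVars false

/-!
A transvection of pure type generates the special linear group, so the stabiliser in `SL_n` of a tensor
decomposition is maximal.
-/

namespace CfsgLib.Classical.TensorMax

open Matrix
open scoped MatrixGroups Kronecker

variable {F : Type*} [Field F] {α β : Type} [Fintype α] [DecidableEq α] [Fintype β] [DecidableEq β]
variable {M : Subgroup (GL (α × β) F)}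

/-- All the multiples of a pure root matrix lie in `M`. -/
def Good (M : Subgroup (GL (α × β) F)) (u l : α → F) (w ψ : β → F) : Prop :=
  ∀ c : F, InM M (1 + (c • Matrix.vecMulVec u l) ⊗ₖ Matrix.vecMulVec w ψ)

theorem conj_vecMulVec {γ : Type} [Fintype γ] [DecidableEq γ] (u l v η : γ → F) :
    (1 + Matrix.vecMulVec v η) * Matrix.vecMulVec u l * (1 - Matrix.vecMulVec v η) =
      Matrix.vecMulVec (u + (η ⬝ᵥ u) • v) (l - (l ⬝ᵥ v) • η) := by
  rw [Matrix.mul_vecMulVec, one_add_vecMulVec_mulVec, Matrix.vecMulVec_mul, Matrix.vecMul_sub,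
    Matrix.vecMul_one, Matrix.vecMul_vecMulVec]

theorem one_add_mul_one_sub {γ : Type} [Fintype γ] [DecidableEq γ] {v η : γ → F} (h : η ⬝ᵥ v = 0) :
    (1 + Matrix.vecMulVec v η) * (1 - Matrix.vecMulVec v η) = 1 := by
  have : Matrix.vecMulVec v η * Matrix.vecMulVec v η = 0 := by
    rw [Matrix.vecMulVec_mul_vecMulVec, h]; simp
  rw [Matrix.mul_sub, Matrix.mul_one, Matrix.add_mul, Matrix.one_mul, this]
  abel

namespace Hyp

theorem good_conj (H : Hyp M) {u l : α → F} {w ψ : β → F} (h : Good M u l w ψ) {S S' : Matrix α α F}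
    {T T' : Matrix β β F} (hS : S.det = 1) (hT : T.det = 1) (eS : S * S' = 1) (eT : T * T' = 1) (c : F) :
    InM M (1 + (c • (S * Matrix.vecMulVec u l * S')) ⊗ₖ (T * Matrix.vecMulVec w ψ * T')) := by
  have hS' : S'.det = 1 := by
    have := congrArg Matrix.det eS
    rwa [Matrix.det_mul, hS, one_mul, Matrix.det_one] at this
  have hT' : T'.det = 1 := by
    have := congrArg Matrix.det eT
    rwa [Matrix.det_mul, hT, one_mul, Matrix.det_one] at this
  have e := ((H.inM_kron hS hT).mul (h c)).mul (H.inM_kron hS' hT')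
  rw [Matrix.mul_add, Matrix.mul_one, Matrix.add_mul, ← Matrix.mul_kronecker_mul, eS, eT, Matrix.one_kronecker_one,
    ← Matrix.mul_kronecker_mul, ← Matrix.mul_kronecker_mul] at e
  simpa only [Matrix.mul_smul, Matrix.smul_mul] using e

/-- All pure root elements. -/
theorem good_all (H : Hyp M) (hTv : HasTv M) {u l : α → F} {w ψ : β → F} (hu : u ≠ 0) (h1 : l ⬝ᵥ u = 0)
    (hw : w ≠ 0) (h2 : ψ ⬝ᵥ w = 0) : Good M u l w ψ := by
  obtain ⟨u₀, l₀, w₀, ψ₀, hu₀, hl₀, hw₀, hψ₀, o1, o2, hgood⟩ := hTv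
  have sq : ∀ (x y : β → F), y ⬝ᵥ x = 0 → Matrix.vecMulVec x y * Matrix.vecMulVec x y = 0 := fun x y h => by
    rw [Matrix.vecMulVec_mul_vecMulVec, h]; simp
  have sqa : ∀ (x y : α → F), y ⬝ᵥ x = 0 → Matrix.vecMulVec x y * Matrix.vecMulVec x y = 0 := fun x y h => by
    rw [Matrix.vecMulVec_mul_vecMulVec, h]; simp
  have step : Good M u l w₀ ψ₀ := by
    refine spread (fun a b => Good M a b w₀ ψ₀) ?_ ?_ ?_ hu₀ hl₀ o1 hgood u l hu h1
    · intro a b v η _ hv h c
      have e := H.good_conj h (S := 1 + Matrix.vecMulVec v η) (S' := 1 - Matrix.vecMulVec v η) (T := 1) (T' := 1)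
        (by rw [det_one_add_vecMulVec, hv, add_zero]) Matrix.det_one (one_add_mul_one_sub hv) (Matrix.one_mul 1) c
      rwa [conj_vecMulVec, Matrix.one_mul, Matrix.mul_one] at e
    · intro a b b' _ _ h h' c
      convert (h c).mul (h' c) using 1
      rw [Matrix.mul_add, Matrix.mul_one, Matrix.add_mul, Matrix.one_mul, ← Matrix.mul_kronecker_mul, sq _ _ o2,
        Matrix.kronecker_zero, add_zero, Matrix.vecMulVec_add, smul_add, Matrix.add_kronecker, add_assoc]
    · intro d a b _ h
      constructor <;> intro c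
      · rw [Matrix.vecMulVec_smul, smul_smul]; exact h _
      · rw [Matrix.smul_vecMulVec, smul_smul]; exact h _
  refine spread (fun a b => Good M u l a b) ?_ ?_ ?_ hw₀ hψ₀ o2 step w ψ hw h2
  · intro a b v η _ hv h c
    have e := H.good_conj h (T := 1 + Matrix.vecMulVec v η) (T' := 1 - Matrix.vecMulVec v η) (S := 1) (S' := 1)
      Matrix.det_one (by rw [det_one_add_vecMulVec, hv, add_zero]) (Matrix.one_mul 1) (one_add_mul_one_sub hv) c
    rwa [conj_vecMulVec, Matrix.one_mul, Matrix.mul_one] at e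
  · intro a b b' _ _ h h' c
    convert (h c).mul (h' c) using 1
    rw [Matrix.mul_add, Matrix.mul_one, Matrix.add_mul, Matrix.one_mul, ← Matrix.mul_kronecker_mul,
      Matrix.smul_mul, Matrix.mul_smul, sqa _ _ h1, smul_zero, smul_zero, Matrix.zero_kronecker, add_zero,
      Matrix.vecMulVec_add, Matrix.kronecker_add, add_assoc]
  · intro d a b _ h
    constructor <;> intro c
    · rw [Matrix.vecMulVec_smul, Matrix.kronecker_smul, ← Matrix.smul_kronecker, smul_smul]; exact h _
    · rw [Matrix.smul_vecMulVec, Matrix.kronecker_smul, ← Matrix.smul_kronecker, smul_smul]; exact h _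

/-- With a pure transvection the group is everything. -/
theorem mem_of_hasTv (H : Hyp M) (hTv : HasTv M) {g : GL (α × β) F} (hg : g.1.det = 1) : g ∈ M := by
  haveI := H.nonempty_left
  have hb : 3 ≤ Fintype.card β := by have := H.two_le; have := H.lt; omega
  haveI : Nontrivial α := Fintype.one_lt_card_iff_nontrivial.1 (by have := H.two_le; omega)
  haveI : Nontrivial β := Fintype.one_lt_card_iff_nontrivial.1 (by omega)
  set N : Subgroup (SpecialLinearGroup (α × β) F) := M.comap Matrix.SpecialLinearGroup.toGL with hN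
  have hdiff : ∀ (i j : α) (k l : β) (hij : i ≠ j) (_hkl : k ≠ l) (c : F),
      SpecialLinearGroup.transvection (show (i, k) ≠ (j, l) from fun e => hij (congrArg Prod.fst e)) c ∈ N := by
    intro i j k l hij hkl c
    obtain ⟨x, hx, hx'⟩ := H.good_all hTv (u := Pi.single i (1 : F)) (l := Pi.single j (1 : F))
      (w := Pi.single k (1 : F)) (ψ := Pi.single l (1 : F))
      (fun e => (one_ne_zero : (1 : F) ≠ 0) (by simpa using congrFun e i)) (by simp [hij.symm])
      (fun e => (one_ne_zero : (1 : F) ≠ 0) (by simpa using congrFun e k)) (by simp [hkl.symm]) c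
    show Matrix.SpecialLinearGroup.toGL _ ∈ M
    convert hx using 1
    refine Units.ext (Eq.trans ?_ hx'.symm)
    show (SpecialLinearGroup.transvection (show (i, k) ≠ (j, l) from fun e => hij (congrArg Prod.fst e)) c).1 = _
    rw [SpecialLinearGroup.transvection_coe, ← Matrix.single_eq_single_vecMulVec_single,
      ← Matrix.single_eq_single_vecMulVec_single, Matrix.smul_single, smul_eq_mul, mul_one,
      Matrix.single_kronecker_single, mul_one]
  have hcomm : ∀ (p q r : α × β) (hpr : p ≠ r) (hpq : p ≠ q) (hqr : q ≠ r),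
      (∀ c : F, SpecialLinearGroup.transvection hpq c ∈ N) →
      (∀ c : F, SpecialLinearGroup.transvection hqr c ∈ N) →
      ∀ c : F, SpecialLinearGroup.transvection hpr c ∈ N := by
    intro p q r hpr hpq hqr h1 h2 c
    rw [← commutator_transvection hpr hpq hqr c, commutatorElement_def]
    exact N.mul_mem (N.mul_mem (N.mul_mem (h1 c) (h2 1)) (N.inv_mem (h1 c))) (N.inv_mem (h2 1))
  have hsame : ∀ (i : α) (k m : β) (hkm : k ≠ m) (c : F),
      SpecialLinearGroup.transvection (show (i, k) ≠ (i, m) from fun e => hkm (congrArg Prod.snd e)) c ∈ N := by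
    intro i k m hkm c
    obtain ⟨j, hj⟩ := exists_ne i
    obtain ⟨l, -, hl⟩ := Finset.exists_mem_notMem_of_card_lt_card (t := (Finset.univ : Finset β)) (s := {k, m})
      (by rw [Finset.card_pair hkm, Finset.card_univ]; omega)
    simp only [Finset.mem_insert, Finset.mem_singleton, not_or] at hl
    exact hcomm (i, k) (j, l) (i, m) _ _ _ (hdiff i j k l hj.symm (Ne.symm hl.1))
      (hdiff j i l m hj hl.2) c
  have htop : N = ⊤ := by
    refine eq_top_of_transvection_mem N ?_
    rintro ⟨i, k⟩ ⟨j, l⟩ hne c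
    by_cases hij : i = j
    · subst hij
      exact hsame i k l (fun e => hne (by rw [e])) c
    by_cases hkl : k = l
    · subst hkl
      obtain ⟨m, hm⟩ := exists_ne k
      exact hcomm (i, k) (i, m) (j, k) _ _ _ (hsame i k m hm.symm) (hdiff i j m k hij hm) c
    exact hdiff i j k l hij hkl c
  let gs : SpecialLinearGroup (α × β) F := ⟨g.1, hg⟩
  have hmem : gs ∈ N := by rw [htop]; exact Subgroup.mem_top _
  have e : g = Matrix.SpecialLinearGroup.toGL gs := Units.ext rfl
  exact e ▸ hmem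

end Hyp

/-- A transvection of `SL` outside the stabiliser. -/
theorem exists_not_tens (h1 : 2 ≤ Fintype.card α) (h2 : 2 ≤ Fintype.card β) :
    ∃ g : GL (α × β) F, g.1.det = 1 ∧ ¬ Tens g.1 := by
  haveI : Nontrivial α := Fintype.one_lt_card_iff_nontrivial.1 (by omega)
  haveI : Nontrivial β := Fintype.one_lt_card_iff_nontrivial.1 (by omega)
  obtain ⟨i, j, hij⟩ := exists_pair_ne α
  obtain ⟨k, l, hkl⟩ := exists_pair_ne β
  have hne : (i, k) ≠ (j, l) := fun e => hij (congrArg Prod.fst e)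
  refine ⟨Matrix.SpecialLinearGroup.toGL (SpecialLinearGroup.transvection hne 1),
    (SpecialLinearGroup.transvection hne (1 : F)).2, ?_⟩
  rintro ⟨S, T, hST⟩
  have e : ∀ p q : α × β, (1 + Matrix.single (i, k) (j, l) (1 : F)) p q = S p.1 q.1 * T p.2 q.2 := fun p q => by
    have := congrFun₂ hST p q
    rwa [show (Matrix.SpecialLinearGroup.toGL (SpecialLinearGroup.transvection hne (1 : F))).1 =
      1 + Matrix.single (i, k) (j, l) (1 : F) from SpecialLinearGroup.transvection_coe hne 1] at this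
  have a := e (i, k) (j, l)
  have b := e (i, k) (i, k)
  have c := e (i, k) (j, k)
  simp [hij, hkl, Ne.symm hij, Ne.symm hkl] at a b c
  rcases c with c | c
  · rw [c] at a; simp at a
  · rw [c] at b; simp at b

/-- The stabiliser of a tensor decomposition is maximal in `SL`. -/
theorem isMaximalIn {n n₁ n₂ : ℕ} (h1 : 2 ≤ n₁) (h12 : n₁ < n₂) (hex : 3 ≤ n₁ ∨ ∃ t : F, t ≠ 0 ∧ t ≠ 1)
    (e : Fin n ≃ Fin n₁ × Fin n₂) (P : GL (Fin n) F) :
    Cfsg.Geo.IsMaximalIn (Cfsg.Geo.specialLinear (Fin n) F)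
      (Cfsg.Geo.tensorProductSubgroup n₁ n₂ e P ⊓ Cfsg.Geo.specialLinear (Fin n) F) := by
  classical
  set φ : GL (Fin n₁ × Fin n₂) F ≃* GL (Fin n) F :=
    (Cfsg.Geo.glReindex (F := F) e.symm).trans (MulAut.conj P) with hφ
  have hdet : ∀ g, (φ g).1.det = g.1.det := fun g => by
    show (P.1 * Matrix.reindexAlgEquiv F F e.symm g.1 * (P⁻¹).1).det = _
    rw [Matrix.det_mul, Matrix.det_mul, Matrix.det_reindexAlgEquiv, mul_comm P.1.det, mul_assoc,
      ← Matrix.det_mul, P.mul_inv, Matrix.det_one, mul_one]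
  have hsl : ∀ g, φ g ∈ Cfsg.Geo.specialLinear (Fin n) F ↔ g.1.det = 1 := fun g => by
    rw [← hdet g]
    show Matrix.GeneralLinearGroup.det (φ g) = 1 ↔ _
    rw [Units.ext_iff]
    rfl
  have hkr : ∀ g, φ g ∈ Cfsg.Geo.tensorProductSubgroup n₁ n₂ e P ↔ Tens g.1 := by
    intro g
    constructor
    · rintro ⟨_, ⟨x, ⟨a, b, hx⟩, rfl⟩, hx'⟩
      have : x = g := φ.injective hx'
      exact ⟨_, _, this ▸ hx⟩
    · rintro ⟨S, T, hST⟩
      have hd : (S ⊗ₖ T).det ≠ 0 := hST ▸ ((Matrix.isUnit_iff_isUnit_det _).1 g.isUnit).ne_zero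
      rw [Matrix.det_kronecker] at hd
      haveI : Nonempty (Fin n₁) := ⟨⟨0, by omega⟩⟩
      haveI : Nonempty (Fin n₂) := ⟨⟨0, by omega⟩⟩
      have hS : S.det ≠ 0 := fun h0 => hd (by simp [h0, Fintype.card_ne_zero]; omega)
      have hT : T.det ≠ 0 := fun h0 => hd (by simp [h0, Fintype.card_ne_zero]; omega)
      exact ⟨_, ⟨g, ⟨Matrix.GeneralLinearGroup.mkOfDetNeZero S hS, Matrix.GeneralLinearGroup.mkOfDetNeZero T hT,
        hST⟩, rfl⟩, rfl⟩
  obtain ⟨x, hx1, hx2⟩ := exists_not_tens (F := F) (α := Fin n₁) (β := Fin n₂) (by simp; omega) (by simp; omega)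
  refine ⟨lt_of_le_of_ne inf_le_right fun hh => hx2 ((hkr x).1 ?_), fun K hK hK' => ?_⟩
  · have := (hsl x).2 hx1
    rw [← hh] at this
    exact this.1
  set M : Subgroup (GL (Fin n₁ × Fin n₂) F) := K.comap φ.toMonoidHom with hM
  have H : Hyp M :=
    { two_le := by simpa using h1
      lt := by simpa using h12
      excl := by simpa using hex
      det_one := fun g hg => (hsl g).1 (hK' hg)
      tens := fun g hd ht => hK ⟨(hkr g).2 ht, (hsl g).2 hd⟩ }
  by_cases hall : ∀ g ∈ M, Tens g.1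
  · refine Or.inl (le_antisymm (fun y hy => ?_) hK)
    obtain ⟨g, rfl⟩ := φ.surjective y
    exact ⟨(hkr g).2 (hall g hy), hK' hy⟩
  · push Not at hall
    obtain ⟨g, hg, hnt⟩ := hall
    refine Or.inr (le_antisymm hK' fun y hy => ?_)
    obtain ⟨z, rfl⟩ := φ.surjective y
    exact H.mem_of_hasTv (H.hasTv_of_not_tens hg hnt) ((hsl z).1 hy)

end CfsgLib.Classical.TensorMax
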