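import Mathlib
import Cfsg.Prelude.Def_GeometricClasses

set_option autoImplicit false
set_option linter.unusedSectionVars false

/-!
Block calculus on `F^α ⊗ F^β`: the embeddings `v ↦ v ⊗ w`, the contractions by a functional of the
second factor, and linear algebra helpers.
-/

namespace CfsgLib.Classical.TensorMax

open Matrix
open scoped MatrixGroups Kronecker

variable {F : Type*} [Field F] {α β : Type} [Fintype α] [DecidableEq α] [Fintype β] [DecidableEq β]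

/-- The matrix of `v ↦ v ⊗ w`. -/
def kc (α : Type) [DecidableEq α] (w : β → F) : Matrix (α × β) α F :=
  Matrix.of fun p i => if p.1 = i then w p.2 else 0

/-- The matrix of the contraction `v ⊗ u ↦ φ(u) • v`. -/
def kr (α : Type) [DecidableEq α] (φ : β → F) : Matrix α (α × β) F :=
  Matrix.of fun i p => if i = p.1 then φ p.2 else 0

theorem kc_apply (w : β → F) (i : α) (k : β) (j : α) :
    (kc α w) (i, k) j = if i = j then w k else 0 := rfl

theorem kr_apply (φ : β → F) (i j : α) (k : β) :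
    (kr α φ) i (j, k) = if i = j then φ k else 0 := rfl

theorem kr_mul_kc (φ w : β → F) :
    (kr α φ) * kc α w = (φ ⬝ᵥ w) • (1 : Matrix α α F) := by
  ext i j
  simp [kr_apply, kc_apply, Matrix.mul_apply, Fintype.sum_prod_type, Matrix.one_apply, dotProduct,
    Finset.sum_ite_eq, ite_mul, mul_ite]

theorem kron_mul_kc (S : Matrix α α F) (T : Matrix β β F) (w : β → F) :
    (S ⊗ₖ T) * (kc α w) = kc α (T *ᵥ w) * S := by
  ext ⟨i, k⟩ j
  simp [kc_apply, Matrix.mul_apply, Fintype.sum_prod_type, Matrix.mulVec, dotProduct, Finset.mul_sum,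
    Finset.sum_mul, ite_mul, mul_ite, Finset.sum_ite_eq, mul_comm, mul_left_comm]

theorem kr_mul_kron (φ : β → F) (S : Matrix α α F) (T : Matrix β β F) :
    (kr α φ) * (S ⊗ₖ T) = S * kr α (φ ᵥ* T) := by
  ext i ⟨j, k⟩
  simp [kr_apply, Matrix.mul_apply, Fintype.sum_prod_type, Matrix.vecMul, dotProduct, Finset.mul_sum,
    Finset.sum_mul, ite_mul, mul_ite, Finset.sum_ite_eq, mul_comm, mul_left_comm]

theorem kc_mul_mul_kr (w : β → F) (N : Matrix α α F) (φ : β → F) :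
    (kc α w) * N * (kr α φ) = N ⊗ₖ Matrix.vecMulVec w φ := by
  ext ⟨i, k⟩ ⟨j, l⟩
  simp [kc_apply, kr_apply, Matrix.mul_apply, Matrix.vecMulVec_apply, ite_mul, mul_ite, Finset.sum_ite_eq,
    mul_comm, mul_left_comm]

theorem kc_mul_kr (w φ : β → F) :
    (kc α w) * kr α φ = (1 : Matrix α α F) ⊗ₖ Matrix.vecMulVec w φ := by
  rw [← kc_mul_mul_kr, Matrix.mul_one]

theorem kr_add (φ ψ : β → F) : (kr α (φ + ψ)) = kr α φ + kr α ψ := by
  ext i p; simp [kr]; split <;> simp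

theorem kr_smul (c : F) (φ : β → F) : (kr α (c • φ)) = c • kr α φ := by
  ext i p; simp [kr]

theorem kc_smul (c : F) (φ : β → F) : (kc α (c • φ)) = c • kc α φ := by
  ext i p; simp [kc]

theorem kr_zero : (kr α (0 : β → F)) = 0 := by
  ext i p; simp [kr]

theorem kc_add (φ ψ : β → F) : (kc α (φ + ψ)) = kc α φ + kc α ψ := by
  ext i p; simp [kc]; split <;> simp

/-- A matrix with all contractions `τ (· ⊗ e_k)` known is determined. -/
theorem eq_of_mul_kc_single {τ τ' : Matrix α (α × β) F}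
    (h : ∀ k : β, τ * (kc α (Pi.single k (1 : F) : β → F) : Matrix (α × β) α F) =
      τ' * (kc α (Pi.single k (1 : F) : β → F) : Matrix (α × β) α F)) : τ = τ' := by
  ext i ⟨j, k⟩
  have := congrFun₂ (h k) i j
  have e : ∀ σ : Matrix α (α × β) F,
      (σ * kc α (Pi.single k (1 : F))) i j = σ i (j, k) := fun σ => by
    rw [Matrix.mul_apply, Fintype.sum_eq_single (j, k)]
    · simp [kc_apply]
    · rintro ⟨a, b⟩ hne
      rw [kc_apply]
      split
      · next h1 =>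
        subst h1
        have hb : b ≠ k := fun h2 => hne (by rw [h2])
        simp [Pi.single_eq_of_ne hb]
      · simp
  exact (e τ).symm.trans (this.trans (e τ'))

theorem exists_dual_one {w : β → F} (hw : w ≠ 0) : ∃ θ : β → F, θ ⬝ᵥ w = 1 := by
  obtain ⟨k, hk⟩ := Function.ne_iff.1 hw
  exact ⟨Pi.single k (w k)⁻¹, by rw [single_dotProduct, inv_mul_cancel₀ hk]⟩

theorem kc_cancel {γ : Type} [Fintype γ] {w : β → F} (hw : w ≠ 0) {X Y : Matrix α γ F}
    (h : (kc α w) * X = kc α w * Y) : X = Y := by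
  obtain ⟨θ, hθ⟩ := exists_dual_one hw
  have := congrArg ((kr α θ) * ·) h
  simp only [← Matrix.mul_assoc, kr_mul_kc, hθ, one_smul, Matrix.one_mul] at this
  exact this

theorem kr_cancel {γ : Type} [Fintype γ] {φ : β → F} (hφ : φ ≠ 0) {X Y : Matrix γ α F}
    (h : X * (kr α φ) = Y * kr α φ) : X = Y := by
  obtain ⟨θ, hθ⟩ := exists_dual_one hφ
  have := congrArg (· * (kc α θ)) h
  simp only [Matrix.mul_assoc, kr_mul_kc, dotProduct_comm φ θ, hθ, one_smul, Matrix.mul_one] at this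
  exact this

/-- The contraction of `g` by `φ` and `w`. -/
def blk (g : Matrix (α × β) (α × β) F) (φ w : β → F) : Matrix α α F :=
  (kr α φ) * g * (kc α w)

theorem blk_one (φ w : β → F) :
    blk (1 : Matrix (α × β) (α × β) F) φ w = (φ ⬝ᵥ w) • 1 := by
  rw [blk, Matrix.mul_one, kr_mul_kc]

/-- The block of `1 + g (kc α w * kr α φ) h`. -/
theorem blk_conj (g h : Matrix (α × β) (α × β) F) (φ' w' φ w : β → F) :
    blk (1 + g * ((kc α w) * (kr α φ)) * h) φ' w' = (φ' ⬝ᵥ w') • 1 + blk g φ' w * blk h φ w' := by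
  simp only [blk, Matrix.mul_add, Matrix.add_mul, Matrix.mul_one, kr_mul_kc, Matrix.mul_assoc]

theorem kr_sub (φ ψ : β → F) : (kr α (φ - ψ)) = kr α φ - kr α ψ := by
  ext i p; simp [kr]; split <;> simp

/-- Kronecker product form. -/
def Tens (g : Matrix (α × β) (α × β) F) : Prop :=
  ∃ (S : Matrix α α F) (T : Matrix β β F), g = S ⊗ₖ T

theorem tens_mul {g h : Matrix (α × β) (α × β) F} (hg : Tens g) (hh : Tens h) : Tens (g * h) := by
  obtain ⟨S, T, rfl⟩ := hg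
  obtain ⟨S', T', rfl⟩ := hh
  exact ⟨S * S', T * T', (Matrix.mul_kronecker_mul _ _ _ _).symm⟩

theorem tens_inv {g g' : Matrix (α × β) (α × β) F} (hg : Tens g) (h : g * g' = 1)
    (hne : Nonempty α) (hne' : Nonempty β) : Tens g' := by
  obtain ⟨S, T, rfl⟩ := hg
  have hd : (S ⊗ₖ T).det ≠ 0 := fun h0 => by
    have := congrArg Matrix.det h
    rw [Matrix.det_mul, h0, zero_mul, Matrix.det_one] at this
    exact zero_ne_one this
  rw [Matrix.det_kronecker] at hd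
  have hS : S.det ≠ 0 := fun h0 => hd (by simp [h0, Fintype.card_ne_zero])
  have hT : T.det ≠ 0 := fun h0 => hd (by simp [h0, Fintype.card_ne_zero])
  refine ⟨S⁻¹, T⁻¹, ?_⟩
  have h1 : (S⁻¹ ⊗ₖ T⁻¹) * (S ⊗ₖ T) = 1 := by
    rw [← Matrix.mul_kronecker_mul, Matrix.nonsing_inv_mul S (Ne.isUnit hS),
      Matrix.nonsing_inv_mul T (Ne.isUnit hT), Matrix.one_kronecker_one]
  calc g' = (S⁻¹ ⊗ₖ T⁻¹) * (S ⊗ₖ T) * g' := by rw [h1, Matrix.one_mul]
    _ = S⁻¹ ⊗ₖ T⁻¹ := by rw [Matrix.mul_assoc, h, Matrix.mul_one]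

theorem det_one_add_vecMulVec {γ : Type} [Fintype γ] [DecidableEq γ] (u v : γ → F) :
    (1 + Matrix.vecMulVec u v).det = 1 + v ⬝ᵥ u := by
  rw [Matrix.vecMulVec_eq Unit, Matrix.det_one_add_replicateCol_mul_replicateRow]

theorem vecMul_one_add_vecMulVec {γ : Type} [Fintype γ] [DecidableEq γ] (x u v : γ → F) :
    x ᵥ* (1 + Matrix.vecMulVec u v) = x + (x ⬝ᵥ u) • v := by
  rw [Matrix.vecMul_add, Matrix.vecMul_one, Matrix.vecMul_vecMulVec]

theorem one_add_vecMulVec_mulVec {γ : Type} [Fintype γ] [DecidableEq γ] (x u v : γ → F) :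
    (1 + Matrix.vecMulVec u v) *ᵥ x = x + (v ⬝ᵥ x) • u := by
  rw [Matrix.add_mulVec, Matrix.one_mulVec, Matrix.vecMulVec_mulVec]
  simp [op_smul_eq_smul]

/-- A non-zero vector orthogonal to fewer vectors than the dimension. -/
theorem exists_orth {γ : Type} [Fintype γ] {κ : Type} [Fintype κ] (f : κ → γ → F)
    (h : Fintype.card κ < Fintype.card γ) : ∃ x : γ → F, x ≠ 0 ∧ ∀ i, f i ⬝ᵥ x = 0 := by
  let L : (γ → F) →ₗ[F] (κ → F) := Matrix.mulVecLin (Matrix.of f)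
  have hL : LinearMap.ker L ≠ ⊥ := LinearMap.ker_ne_bot_of_finrank_lt (by simpa using h)
  obtain ⟨x, hx, hx0⟩ := Submodule.exists_mem_ne_zero_of_ne_bot hL
  exact ⟨x, hx0, fun i => congrFun (LinearMap.mem_ker.1 hx) i⟩

/-- Functionals with prescribed values on two independent vectors. -/
theorem exists_dual_pair {γ : Type} [Fintype γ] [DecidableEq γ] {u v : γ → F} (hu : u ≠ 0)
    (hv : ∀ c : F, v ≠ c • u) (p q : F) : ∃ θ : γ → F, θ ⬝ᵥ u = p ∧ θ ⬝ᵥ v = q := by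
  obtain ⟨θ₀, h₀⟩ := exists_dual_one hu
  have hw : v - (θ₀ ⬝ᵥ v) • u ≠ 0 := sub_ne_zero.2 (hv _)
  obtain ⟨θ₁, h₁⟩ := exists_dual_one hw
  let θ₂ := θ₁ - (θ₁ ⬝ᵥ u) • θ₀
  have a1 : θ₂ ⬝ᵥ u = 0 := by
    simp only [θ₂, sub_dotProduct, smul_dotProduct, h₀, smul_eq_mul, mul_one, sub_self]
  have a2 : θ₂ ⬝ᵥ v = 1 := by
    rw [dotProduct_sub, dotProduct_smul] at h₁
    simp only [θ₂, sub_dotProduct, smul_dotProduct, smul_eq_mul] at h₁ ⊢
    linear_combination h₁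
  exact ⟨p • θ₀ + (q - p * (θ₀ ⬝ᵥ v)) • θ₂, by simp [add_dotProduct, smul_dotProduct, h₀, a1],
    by simp [add_dotProduct, smul_dotProduct, a2]⟩

/-- A linear map which fixes every line is a scalar. -/
theorem exists_moved {γ : Type} [Fintype γ] [DecidableEq γ] [Nonempty γ] {E : Matrix γ γ F}
    (hE : ∀ c : F, E ≠ c • (1 : Matrix γ γ F)) :
    ∃ u : γ → F, u ≠ 0 ∧ ∀ c : F, E *ᵥ u ≠ c • u := by
  by_contra hh
  push Not at hh
  have hall : ∀ u : γ → F, ∃ c : F, E *ᵥ u = c • u := fun u => by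
    by_cases h : u = 0
    · exact ⟨0, by simp [h]⟩
    · exact hh u h
  choose c hc using hall
  let i₀ : γ := Classical.arbitrary γ
  refine hE (c (Pi.single i₀ 1)) (Matrix.ext_of_mulVec_single fun j => ?_)
  rw [hc, Matrix.smul_mulVec, Matrix.one_mulVec]
  by_cases hj : j = i₀
  · rw [hj]
  have e := hc (Pi.single i₀ 1 + Pi.single j 1)
  rw [Matrix.mulVec_add, hc, hc, smul_add] at e
  have e1 := congrFun e i₀
  have e2 := congrFun e j
  simp [Ne.symm hj] at e1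
  simp [hj] at e2
  rw [e1, e2]

/-- The spreading principle for a linear family of nilpotent rank one matrices. -/
theorem spread {γ : Type} [Fintype γ] [DecidableEq γ] (P : (γ → F) → (γ → F) → Prop)
    (hconj : ∀ u l v η : γ → F, l ⬝ᵥ u = 0 → η ⬝ᵥ v = 0 → P u l →
      P (u + (η ⬝ᵥ u) • v) (l - (l ⬝ᵥ v) • η))
    (hadd : ∀ u l l' : γ → F, l ⬝ᵥ u = 0 → l' ⬝ᵥ u = 0 → P u l → P u l' → P u (l + l'))
    (hsmul : ∀ (c : F) (u l : γ → F), l ⬝ᵥ u = 0 → P u l → P u (c • l) ∧ P (c • u) l)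
    {u₀ l₀ : γ → F} (hu₀ : u₀ ≠ 0) (hl₀ : l₀ ≠ 0) (h0 : l₀ ⬝ᵥ u₀ = 0) (hP : P u₀ l₀)
    (t m : γ → F) (ht : t ≠ 0) (htm : m ⬝ᵥ t = 0) : P t m := by
  obtain ⟨l, hl, hlt, hPl⟩ : ∃ l, l ≠ 0 ∧ l ⬝ᵥ t = 0 ∧ P t l := by
    by_cases h : ∃ c : F, t = c • u₀
    · obtain ⟨c, rfl⟩ := h
      exact ⟨l₀, hl₀, by rw [dotProduct_smul, h0, smul_zero], (hsmul c _ _ h0 hP).2⟩
    push Not at h
    obtain ⟨η, e1, e2⟩ := exists_dual_pair hu₀ h 1 1
    have hv : η ⬝ᵥ (t - u₀) = 0 := by rw [dotProduct_sub, e1, e2, sub_self]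
    refine ⟨l₀ - (l₀ ⬝ᵥ (t - u₀)) • η, fun h1 => ?_, ?_, ?_⟩
    · rw [sub_eq_zero] at h1
      have := congrArg (· ⬝ᵥ u₀) h1
      simp only [h0, smul_dotProduct, e1, smul_eq_mul, mul_one] at this
      rw [← this, zero_smul] at h1
      exact hl₀ h1
    · simp [sub_dotProduct, smul_dotProduct, dotProduct_sub, e2, h0]
    · have := hconj u₀ l₀ (t - u₀) η h0 hv hP
      rwa [e1, one_smul, add_sub_cancel] at this
  by_cases h : ∃ c : F, m = c • l
  · obtain ⟨c, rfl⟩ := h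
    exact (hsmul c _ _ hlt hPl).1
  push Not at h
  obtain ⟨v, e1, e2⟩ := exists_dual_pair hl h 1 0
  rw [dotProduct_comm] at e1 e2
  have h1 := hconj t l v m hlt e2 hPl
  rw [htm, zero_smul, add_zero, e1, one_smul] at h1
  have o1 : (l - m) ⬝ᵥ t = 0 := by rw [sub_dotProduct, hlt, htm, sub_zero]
  have h2 := (hsmul (-1) _ _ o1 h1).1
  have o2 : ((-1 : F) • (l - m)) ⬝ᵥ t = 0 := by rw [smul_dotProduct, o1, smul_zero]
  have h3 := hadd _ _ _ o2 hlt h2 hPl
  have e : (-1 : F) • (l - m) + l = m := by simp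
  rwa [e] at h3

end CfsgLib.Classical.TensorMax
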