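import Cfsg.Agent.Lib.Classical.TensorMax.Stab

set_option autoImplicit false
set_option linter.unusedSectionVars false

/-!
An element which is not a Kronecker product has no vanishing contraction, and the ranks of the
contractions of its conjugates cannot be bounded below; so there is a transvection.
-/

namespace CfsgLib.Classical.TensorMax

open Matrix
open scoped MatrixGroups Kronecker

variable {F : Type*} [Field F] {α β : Type} [Fintype α] [DecidableEq α] [Fintype β] [DecidableEq β]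
variable {M : Subgroup (GL (α × β) F)}

theorem eq_of_kr_single_mul {X Y : Matrix (α × β) (α × β) F}
    (h : ∀ k : β, (kr α (Pi.single k (1 : F) : β → F) : Matrix α (α × β) F) * X =
      (kr α (Pi.single k (1 : F) : β → F) : Matrix α (α × β) F) * Y) : X = Y := by
  ext ⟨i, k⟩ p
  have e : ∀ Z : Matrix (α × β) (α × β) F,
      ((kr α (Pi.single k (1 : F) : β → F) : Matrix α (α × β) F) * Z) i p = Z (i, k) p := fun Z => by
    rw [Matrix.mul_apply, Fintype.sum_eq_single (i, k)]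
    · simp [kr_apply]
    · rintro ⟨a, b⟩ hne
      rw [kr_apply]
      split
      · next h1 =>
        subst h1
        have hb : b ≠ k := fun h2 => hne (by rw [h2])
        simp [Pi.single_eq_of_ne hb]
      · simp
  exact (e X).symm.trans ((congrFun₂ (h k) i p).trans (e Y))

namespace Hyp

theorem val_inv (g : GL (α × β) F) : g.1 * (g⁻¹).1 = 1 ∧ (g⁻¹).1 * g.1 = 1 :=
  ⟨g.mul_inv, g.inv_mul⟩

/-- An element fixing `F^α ⊗ w` is a Kronecker product. -/
theorem tens_of_stab (H : Hyp M) (hTv : ¬ HasTv M) {g : GL (α × β) F} (hg : g ∈ M) {w : β → F} (hw : w ≠ 0)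
    {A : Matrix α α F} (hA : g.1 * kc α w = kc α w * A) : Tens g.1 := by
  obtain ⟨θ, hθ⟩ := exists_dual_one hw
  set A' := blk (g⁻¹).1 θ w with hA'def
  have hA' : A' * A = 1 := by
    rw [hA'def, blk, Matrix.mul_assoc, ← hA, ← Matrix.mul_assoc, Matrix.mul_assoc (kr α θ), (val_inv g).2,
      Matrix.mul_one, kr_mul_kc, hθ, one_smul]
  have hAA : A * A' = 1 := mul_eq_one_comm.1 hA'
  have hginv : (g⁻¹).1 * kc α w = kc α w * A' := by
    calc (g⁻¹).1 * kc α w = (g⁻¹).1 * (kc α w * A * A') := by rw [Matrix.mul_assoc (kc α w), hAA, Matrix.mul_one]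
      _ = (g⁻¹).1 * (g.1 * kc α w * A') := by rw [hA]
      _ = kc α w * A' := by rw [← Matrix.mul_assoc, ← Matrix.mul_assoc, (val_inv g).2, Matrix.one_mul]
  have hrow : ∀ φ : β → F, φ ⬝ᵥ w = 0 → ∃ φ' : β → F, A' * kr α φ * g.1 = kr α φ' := by
    intro φ hφ
    have hin : InK M w (A' * kr α φ * g.1) := by
      refine ⟨?_, ?_⟩
      · rw [Matrix.mul_assoc, hA, ← Matrix.mul_assoc, Matrix.mul_assoc A', kr_mul_kc, hφ, zero_smul,
          Matrix.mul_zero, Matrix.zero_mul]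
      · obtain ⟨x, hx, hx'⟩ := (H.inK_kr (w := w) hφ).2
        refine ⟨g⁻¹ * x * g, M.mul_mem (M.mul_mem (M.inv_mem hg) hx) hg, ?_⟩
        rw [Units.val_mul, Units.val_mul, hx', Matrix.mul_add, Matrix.mul_one, Matrix.add_mul, (val_inv g).2,
          ← Matrix.mul_assoc (g⁻¹).1, hginv]
        simp only [Matrix.mul_assoc]
    obtain ⟨φ', -, h'⟩ := H.inK_eq_kr hTv hw hin
    exact ⟨φ', h'⟩
  set h : Matrix (α × β) (α × β) F := (A' ⊗ₖ (1 : Matrix β β F)) * g.1 with hh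
  have hkr : ∀ φ : β → F, (kr α φ : Matrix α (α × β) F) * h = A' * kr α φ * g.1 := fun φ => by
    rw [hh, ← Matrix.mul_assoc, kr_mul_kron, Matrix.vecMul_one]
  have hhw : h * kc α w = kc α w := by
    rw [hh, Matrix.mul_assoc, hA, ← Matrix.mul_assoc, kron_mul_kc, Matrix.one_mulVec, Matrix.mul_assoc, hA',
      Matrix.mul_one]
  have hc : ∀ k : β, ∃ c : β → F,
      (kr α (Pi.single k (1 : F) - w k • θ) : Matrix α (α × β) F) * h = kr α c := fun k => by
    rw [hkr]
    refine hrow _ ?_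
    rw [sub_dotProduct, smul_dotProduct, hθ, single_dotProduct, one_mul, smul_eq_mul, mul_one, sub_self]
  choose c hc using hc
  haveI := H.nonempty_left
  set T : Matrix β β F := Matrix.of fun k => c k + w k • θ with hT
  have hTw : T *ᵥ w = w := by
    ext k
    have h0 := congrArg (· * kc α w) (hc k)
    simp only [Matrix.mul_assoc, hhw, kr_mul_kc, sub_dotProduct, smul_dotProduct, hθ, single_dotProduct,
      one_mul, smul_eq_mul, mul_one, sub_self, zero_smul] at h0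
    obtain ⟨i⟩ := H.nonempty_left
    have h1 := congrFun₂ h0 i i
    simp only [Matrix.zero_apply, Matrix.smul_apply, Matrix.one_apply_eq, smul_eq_mul, mul_one] at h1
    show (c k + w k • θ) ⬝ᵥ w = w k
    rw [add_dotProduct, ← h1, zero_add, smul_dotProduct, hθ, smul_eq_mul, mul_one]
  set τ : Matrix α (α × β) F := kr α θ * h - kr α θ with hτ
  have hτw : τ * kc α w = 0 := by
    rw [hτ, Matrix.sub_mul, Matrix.mul_assoc, hhw, sub_self]
  have e1 : (1 : Matrix α α F) ⊗ₖ T + kc α w * τ = h := by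
    refine eq_of_kr_single_mul fun k => ?_
    rw [Matrix.mul_add, kr_mul_kron, Matrix.one_mul, ← Matrix.mul_assoc, kr_mul_kc, single_dotProduct, one_mul,
      Matrix.smul_mul, Matrix.one_mul, Matrix.single_one_vecMul]
    show kr α (c k + w k • θ) + w k • τ = _
    rw [kr_add, kr_smul, ← hc k, kr_sub, kr_smul, Matrix.sub_mul, Matrix.smul_mul, hτ, smul_sub]
    abel
  have e2 : ((1 : Matrix α α F) ⊗ₖ T) * (1 + kc α w * τ) = h := by
    rw [Matrix.mul_add, Matrix.mul_one, ← Matrix.mul_assoc, kron_mul_kc, hTw, Matrix.mul_one, e1]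
  have e3 : g.1 = (A ⊗ₖ T) * (1 + kc α w * τ) := by
    have : (A ⊗ₖ (1 : Matrix β β F)) * h = g.1 := by
      rw [hh, ← Matrix.mul_assoc, ← Matrix.mul_kronecker_mul, hAA, Matrix.one_mul, Matrix.one_kronecker_one,
        Matrix.one_mul]
    rw [← this, ← e2, ← Matrix.mul_assoc, ← Matrix.mul_kronecker_mul, Matrix.mul_one, Matrix.one_mul]
  have hdet : (1 + kc α w * τ).det = 1 := by
    rw [Matrix.det_one_add_mul_comm, hτw, add_zero, Matrix.det_one]
  have hn : (A ⊗ₖ T).det = 1 := by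
    have := H.det_one g hg
    rwa [e3, Matrix.det_mul, hdet, mul_one] at this
  let n : GL (α × β) F := Matrix.GeneralLinearGroup.mkOfDetNeZero (A ⊗ₖ T) (by rw [hn]; exact one_ne_zero)
  have hnM : n ∈ M := H.tens n hn ⟨A, T, rfl⟩
  have hin : InK M w τ := by
    refine ⟨hτw, n⁻¹ * g, M.mul_mem (M.inv_mem hnM) hg, ?_⟩
    rw [Units.val_mul, e3, ← Matrix.mul_assoc]
    show (n⁻¹).1 * n.1 * _ = _
    rw [n.inv_mul, Matrix.one_mul]
  obtain ⟨ψ, -, hψ⟩ := H.inK_eq_kr hTv hw hin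
  rw [e3, hψ]
  refine tens_mul ⟨A, T, rfl⟩ ⟨1, 1 + Matrix.vecMulVec w ψ, ?_⟩
  rw [Matrix.kronecker_add, Matrix.one_kronecker_one, kc_mul_kr]

/-- If a conjugate of a root element of the second factor is a Kronecker product, so is the conjugator. -/
theorem tens_of_tens_conj (H : Hyp M) (hTv : ¬ HasTv M) {g : GL (α × β) F} (hg : g ∈ M) {φ w : β → F}
    (hφ : φ ≠ 0) (hw : w ≠ 0)
    (hk : Tens (1 + g.1 * (kc α w * kr α φ) * (g⁻¹).1)) : Tens g.1 := by
  haveI := H.nonempty_left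
  obtain ⟨S, T, hST⟩ := hk
  have hmul : ∀ v : β → F, kc α (T *ᵥ v) * S = kc α v + g.1 * kc α w * blk (g⁻¹).1 φ v := fun v => by
    rw [← kron_mul_kc, ← hST, Matrix.add_mul, Matrix.one_mul, blk]
    simp only [Matrix.mul_assoc]
  obtain ⟨c, hc⟩ : ∃ c : F, S = c • 1 := by
    by_contra hS
    push Not at hS
    obtain ⟨u, hu, hSu⟩ := exists_moved hS
    obtain ⟨v, hv, hv'⟩ := exists_orth
      (fun i : α => fun l : β => ∑ j, (kr α φ * (g⁻¹).1) i (j, l) * u j) H.lt
    have hQ : blk (g⁻¹).1 φ v *ᵥ u = 0 := by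
      ext i
      refine Eq.trans ?_ (hv' i)
      simp only [blk, ← Matrix.mulVec_mulVec, dotProduct, Finset.sum_mul]
      rw [Matrix.mulVec_mulVec, Finset.sum_comm, ← Fintype.sum_prod_type']
      refine Finset.sum_congr rfl fun p _ => ?_
      have : (kc α v *ᵥ u) p = v p.2 * u p.1 := by
        simp [Matrix.mulVec, dotProduct, kc, Finset.sum_ite_eq]
      rw [this]
      ring
    have e := congrArg (· *ᵥ u) (hmul v)
    simp only [Matrix.add_mulVec, ← Matrix.mulVec_mulVec, hQ, Matrix.mulVec_zero, add_zero] at e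
    refine hv (funext fun k => ?_)
    have e' := congrArg ((kr α (Pi.single k (1 : F) : β → F) : Matrix α (α × β) F) *ᵥ ·) e
    simp only [Matrix.mulVec_mulVec, ← Matrix.mul_assoc, kr_mul_kc] at e'
    simp only [Matrix.smul_mul, Matrix.one_mul, Matrix.smul_mulVec, Matrix.one_mulVec, single_dotProduct,
      one_mul] at e'
    obtain ⟨l, l1, l2⟩ := exists_dual_pair hu hSu 1 0
    have := congrArg (l ⬝ᵥ ·) e'
    simpa [dotProduct_smul, l1, l2] using this.symm
  set Y := c • T - 1 with hY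
  have hgX : g.1 * (kc α w * kr α φ) * (g⁻¹).1 = (1 : Matrix α α F) ⊗ₖ Y := by
    have e : (1 : Matrix α α F) ⊗ₖ Y + 1 = S ⊗ₖ T := by
      have : (1 : Matrix α α F) ⊗ₖ Y + (1 : Matrix α α F) ⊗ₖ (1 : Matrix β β F) = S ⊗ₖ T := by
        rw [← Matrix.kronecker_add, hY, sub_add_cancel, hc, Matrix.kronecker_smul, Matrix.smul_kronecker]
      rwa [Matrix.one_kronecker_one] at this
    rw [← hST] at e
    rw [add_comm 1] at e
    exact (add_right_cancel e).symm
  obtain ⟨e₀, he₀⟩ : ∃ e₀ : β → F, Y *ᵥ e₀ ≠ 0 := by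
    by_contra hall
    push Not at hall
    have hY0 : Y = 0 := Matrix.ext_of_mulVec_single fun j => by rw [hall, Matrix.zero_mulVec]
    have h0 : kc α w * kr α φ = (0 : Matrix (α × β) (α × β) F) := by
      calc kc α w * kr α φ = (g⁻¹).1 * (g.1 * (kc α w * kr α φ) * (g⁻¹).1) * g.1 := by
            rw [← Matrix.mul_assoc, ← Matrix.mul_assoc, (val_inv g).2, Matrix.one_mul,
              Matrix.mul_assoc (kc α w * kr α φ), (val_inv g).2, Matrix.mul_one]
        _ = 0 := by rw [hgX, hY0, Matrix.kronecker_zero, Matrix.mul_zero, Matrix.zero_mul]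
    have h1 : kc α w * kr α φ = kc α w * (0 : Matrix α (α × β) F) := by rw [h0, Matrix.mul_zero]
    have h2 := kc_cancel hw h1
    obtain ⟨θ, hθ⟩ := exists_dual_one hφ
    have h3 := congrArg (· * kc α θ) h2
    simp only [kr_mul_kc, dotProduct_comm φ θ, hθ, one_smul, Matrix.zero_mul] at h3
    exact one_ne_zero h3
  set w₁ := Y *ᵥ e₀ with hw₁
  set Q := blk (g⁻¹).1 φ e₀ with hQd
  have hQ : g.1 * kc α w * Q = kc α w₁ := by
    have := congrArg (· * kc α e₀) hgX
    simp only [kron_mul_kc, Matrix.mul_one] at this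
    rw [← this, hQd, blk]
    simp only [Matrix.mul_assoc]
  obtain ⟨θ₁, hθ₁⟩ := exists_dual_one he₀
  set Q' := blk g.1 θ₁ w with hQ'd
  have hQQ : Q' * Q = 1 := by
    rw [hQ'd, blk, Matrix.mul_assoc (kr α θ₁), Matrix.mul_assoc (kr α θ₁), hQ, kr_mul_kc, hθ₁, one_smul]
  have hgw : g.1 * kc α w = kc α w₁ * Q' := by
    rw [← hQ, Matrix.mul_assoc _ Q, mul_eq_one_comm.1 hQQ, Matrix.mul_one]
  by_cases hdep : ∃ d : F, w = d • w₁
  · obtain ⟨d, hd⟩ := hdep
    have hd0 : d ≠ 0 := fun h => hw (by rw [hd, h, zero_smul])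
    refine H.tens_of_stab hTv hg hw (A := d⁻¹ • Q') ?_
    rw [hgw, Matrix.mul_smul, hd, kc_smul, Matrix.smul_mul, smul_smul, inv_mul_cancel₀ hd0, one_smul]
  push Not at hdep
  obtain ⟨η, η1, η2⟩ := exists_dual_pair he₀ hdep 1 1
  have hT0 : (1 + Matrix.vecMulVec (w - w₁) η).det = 1 := by
    rw [det_one_add_vecMulVec, dotProduct_sub, η1, η2, sub_self, add_zero]
  obtain ⟨n, hnM, hn⟩ := H.inM_kron (S := (1 : Matrix α α F)) Matrix.det_one hT0
  have hst : (n * g).1 * kc α w = kc α w * Q' := by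
    rw [Units.val_mul, Matrix.mul_assoc, hgw, ← Matrix.mul_assoc, hn, kron_mul_kc, one_add_vecMulVec_mulVec,
      η1, one_smul, add_sub_cancel, Matrix.mul_one]
  have h1 := H.tens_of_stab hTv (M.mul_mem hnM hg) hw hst
  have h2 : Tens (n⁻¹).1 :=
    tens_inv ⟨_, _, hn⟩ n.mul_inv H.nonempty_left H.nonempty_right
  have := tens_mul h2 h1
  rwa [Units.val_mul, ← Matrix.mul_assoc, n.inv_mul, Matrix.one_mul] at this

/-- The conjugate root element. -/
theorem conj_root (H : Hyp M) {g : GL (α × β) F} (hg : g ∈ M) {φ w : β → F} (h : φ ⬝ᵥ w = 0) :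
    ∃ k ∈ M, k.1 = 1 + g.1 * (kc α w * kr α φ) * (g⁻¹).1 ∧
      (k⁻¹).1 = 1 - g.1 * (kc α w * kr α φ) * (g⁻¹).1 := by
  obtain ⟨x, hx, hx'⟩ := (H.inK_kr (w := w) h).2
  have e : (g * x * g⁻¹).1 = 1 + g.1 * (kc α w * kr α φ) * (g⁻¹).1 := by
    rw [Units.val_mul, Units.val_mul, hx', Matrix.mul_add, Matrix.mul_one, Matrix.add_mul, g.mul_inv]
  refine ⟨_, M.mul_mem (M.mul_mem hg hx) (M.inv_mem hg), e, ?_⟩
  set X := g.1 * (kc α w * kr α φ) * (g⁻¹).1 with hX
  have hXX : X * X = 0 := by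
    have : kr α φ * (g⁻¹).1 * (g.1 * kc α w) = (0 : Matrix α α F) := by
      rw [Matrix.mul_assoc, ← Matrix.mul_assoc (g⁻¹).1, g.inv_mul, Matrix.one_mul, kr_mul_kc, h, zero_smul]
    calc X * X = g.1 * kc α w * (kr α φ * (g⁻¹).1 * (g.1 * kc α w)) * (kr α φ * (g⁻¹).1) := by
          rw [hX]; simp only [Matrix.mul_assoc]
      _ = 0 := by rw [this, Matrix.mul_zero, Matrix.zero_mul]
  refine Units.inv_eq_of_mul_eq_one_right ?_
  rw [e, Matrix.mul_sub, Matrix.mul_one, Matrix.add_mul, Matrix.one_mul, hXX]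
  abel

theorem blk_ne_zero (H : Hyp M) (hTv : ¬ HasTv M) {g : GL (α × β) F} (hg : g ∈ M) (hnt : ¬ Tens g.1)
    {φ w : β → F} (hφ : φ ≠ 0) (hw : w ≠ 0) (h : φ ⬝ᵥ w = 0) : blk g.1 φ w ≠ 0 := by
  intro h0
  obtain ⟨k, hk, hk', -⟩ := H.conj_root (M.inv_mem hg) h
  rw [inv_inv] at hk'
  have hst : k.1 * kc α w = kc α w * (1 : Matrix α α F) := by
    have : kr α φ * g.1 * kc α w = (0 : Matrix α α F) := h0
    rw [hk', Matrix.add_mul, Matrix.one_mul, Matrix.mul_one]
    simp only [Matrix.mul_assoc] at this ⊢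
    rw [this, Matrix.mul_zero, Matrix.mul_zero, add_zero]
  have h1 := H.tens_of_stab hTv hk hw hst
  rw [hk'] at h1
  have h2 := H.tens_of_tens_conj hTv (M.inv_mem hg) hφ hw (by rw [inv_inv]; exact h1)
  exact hnt (tens_inv h2 g.inv_mul H.nonempty_left H.nonempty_right)

theorem rank_lt_of_row_zero (Q : Matrix α α F) (P : Matrix α α F) {i : α} (h : ∀ j, Q i j = 0) :
    (P * Q).rank < Fintype.card α := by
  have hd : (P * Q).det = 0 := by rw [Matrix.det_mul, Matrix.det_eq_zero_of_row_eq_zero i h, mul_zero]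
  obtain ⟨v, hv, hv'⟩ := Matrix.exists_mulVec_eq_zero_iff.2 hd
  have hk : LinearMap.ker (P * Q).mulVecLin ≠ ⊥ := fun e => hv ((Submodule.eq_bot_iff _).1 e v hv')
  have h1 := LinearMap.finrank_range_add_finrank_ker (P * Q).mulVecLin
  have h2 : 0 < Module.finrank F (LinearMap.ker (P * Q).mulVecLin) := Submodule.one_le_finrank_iff.2 hk
  rw [Module.finrank_pi] at h1
  rw [Matrix.rank]
  omega

/-- Every intermediate group which is not the stabiliser has a transvection. -/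
theorem hasTv_of_not_tens (H : Hyp M) {g : GL (α × β) F} (hg : g ∈ M) (hnt : ¬ Tens g.1) : HasTv M := by
  classical
  by_contra hTv
  haveI := H.nonempty_left
  haveI := H.nonempty_right
  have hcard := H.lt
  have htwo := H.two_le
  let P : ℕ → Prop := fun r => ∃ g ∈ M, ¬ Tens g.1 ∧ ∃ φ w : β → F, φ ≠ 0 ∧ w ≠ 0 ∧ φ ⬝ᵥ w = 0 ∧
    (blk g.1 φ w).rank = r
  have hk : ∀ {g : GL (α × β) F}, g ∈ M → ¬ Tens g.1 → ∀ {φ w : β → F}, φ ≠ 0 → w ≠ 0 → φ ⬝ᵥ w = 0 →
      ∃ k ∈ M, ¬ Tens k.1 ∧ (∀ φ' w' : β → F, φ' ⬝ᵥ w' = 0 →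
        blk k.1 φ' w' = blk g.1 φ' w * blk (g⁻¹).1 φ w' ∧
        blk (k⁻¹).1 φ' w' = -(blk g.1 φ' w * blk (g⁻¹).1 φ w')) := by
    intro g hg hnt φ w hφ hw h
    obtain ⟨k, hk, hk1, hk2⟩ := H.conj_root hg h
    refine ⟨k, hk, fun ht => hnt (H.tens_of_tens_conj hTv hg hφ hw (hk1 ▸ ht)), fun φ' w' h' => ?_⟩
    constructor
    · rw [hk1, blk_conj, h', zero_smul, zero_add]
    · rw [hk2, sub_eq_add_neg]
      simp only [blk, Matrix.mul_add, Matrix.add_mul, Matrix.mul_neg, Matrix.neg_mul, Matrix.mul_one, kr_mul_kc,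
        h', zero_smul, zero_add, Matrix.mul_assoc]
  obtain ⟨r₁, hr₁, hP₁⟩ : ∃ r, r < Fintype.card α ∧ P r := by
    obtain ⟨φ, hφ, -⟩ := exists_orth (fun _ : Fin 1 => (0 : β → F)) (by simp; omega)
    obtain ⟨w, hw, hw'⟩ := exists_orth ![φ] (by simp; omega)
    obtain ⟨i⟩ := H.nonempty_left
    obtain ⟨w', hw1, hw2⟩ := exists_orth
      (fun j : α => fun l : β => (kr α φ * (g⁻¹).1) i (j, l)) H.lt
    obtain ⟨φ', hφ', hφ''⟩ := exists_orth ![w'] (by simp; omega)
    have o : φ ⬝ᵥ w = 0 := hw' 0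
    have o' : φ' ⬝ᵥ w' = 0 := by rw [dotProduct_comm]; exact hφ'' 0
    obtain ⟨k, hk1, hk2, hk3⟩ := hk hg hnt hφ hw o
    refine ⟨_, ?_, k, hk1, hk2, φ', w', hφ', hw1, o', rfl⟩
    rw [(hk3 _ _ o').1]
    refine rank_lt_of_row_zero _ _ (i := i) fun j => ?_
    refine Eq.trans ?_ (hw2 j)
    rw [blk, Matrix.mul_apply, Fintype.sum_prod_type, dotProduct, Finset.sum_comm]
    refine Finset.sum_congr rfl fun l _ => ?_
    simp [kc_apply, Finset.sum_ite_eq']
  set r := Nat.find (⟨r₁, hP₁⟩ : ∃ r, P r) with hr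
  have hrP : P r := Nat.find_spec (⟨r₁, hP₁⟩ : ∃ r, P r)
  have hmin : ∀ {g : GL (α × β) F}, g ∈ M → ¬ Tens g.1 → ∀ {φ w : β → F}, φ ≠ 0 → w ≠ 0 → φ ⬝ᵥ w = 0 →
      r ≤ (blk g.1 φ w).rank := fun hg hnt φ w hφ hw h =>
    Nat.find_min' _ ⟨_, hg, hnt, φ, w, hφ, hw, h, rfl⟩
  have hrlt : r < Fintype.card α := lt_of_le_of_lt (Nat.find_min' _ hP₁) hr₁
  obtain ⟨g₀, hg₀, hnt₀, φ', w, hφ', hw, ho, hrank⟩ := hrP
  obtain ⟨φ, hφ, hφo⟩ := exists_orth ![w] (by simp; omega)
  have o : φ ⬝ᵥ w = 0 := by rw [dotProduct_comm]; exact hφo 0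
  obtain ⟨k, hk1, hk2, hk3⟩ := hk hg₀ hnt₀ hφ hw o
  set I := LinearMap.range (blk g₀.1 φ' w).mulVecLin with hI
  have hIr : Module.finrank F I = r := hrank
  have hL : ∀ w' : β → F, w' ≠ 0 → φ' ⬝ᵥ w' = 0 → LinearMap.range (blk k.1 φ' w').mulVecLin = I := by
    intro w' hw' h'
    refine Submodule.eq_of_le_of_finrank_le ?_ (hIr ▸ hmin hk1 hk2 hφ' hw' h')
    rw [(hk3 _ _ h').1, Matrix.mulVecLin_mul]
    exact LinearMap.range_comp_le_range _ _
  have hinj : ∀ w₀ : β → F, w₀ ≠ 0 → φ' ⬝ᵥ w₀ = 0 → ∀ v ∈ I, blk k.1 φ' w₀ *ᵥ v = 0 → v = 0 := by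
    intro w₀ hw₀ h₀ v hv hv0
    obtain ⟨k₁, hk11, hk12, hk13⟩ := hk hk1 hk2 hφ' hw₀ h₀
    have e := (hk13 _ _ h₀).1
    rw [(hk3 _ _ h₀).2, ← (hk3 _ _ h₀).1, Matrix.mul_neg] at e
    have hle : r ≤ (blk k.1 φ' w₀ * blk k.1 φ' w₀).rank := by
      have := hmin hk11 hk12 hφ' hw₀ h₀
      rw [e] at this
      rwa [← Matrix.mul_neg, show ∀ X : Matrix α α F, -X = X * (-1) from fun X => by rw [Matrix.mul_neg, Matrix.mul_one],
        ← Matrix.mul_assoc, Matrix.rank_mul_eq_left_of_isUnit_det _ _ (by rw [Matrix.det_neg, Matrix.det_one, mul_one]; exact (isUnit_one.neg).pow _)] at this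
    have hmap : Submodule.map (blk k.1 φ' w₀).mulVecLin I =
        LinearMap.range (blk k.1 φ' w₀ * blk k.1 φ' w₀).mulVecLin := by
      rw [Matrix.mulVecLin_mul, LinearMap.range_comp, hL w₀ hw₀ h₀]
    have h2 := LinearMap.finrank_range_add_finrank_ker ((blk k.1 φ' w₀).mulVecLin.domRestrict I)
    rw [LinearMap.range_domRestrict, hmap] at h2
    rw [hIr] at h2
    have h3 : Module.finrank F (LinearMap.ker ((blk k.1 φ' w₀).mulVecLin.domRestrict I)) = 0 := by
      rw [Matrix.rank] at hle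
      omega
    have h4 : (⟨v, hv⟩ : I) ∈ LinearMap.ker ((blk k.1 φ' w₀).mulVecLin.domRestrict I) := hv0
    rw [Submodule.finrank_eq_zero.1 h3, Submodule.mem_bot] at h4
    exact congrArg Subtype.val h4
  obtain ⟨v, hv, hv0⟩ : ∃ v ∈ I, v ≠ 0 := by
    refine Submodule.exists_mem_ne_zero_of_ne_bot fun e => ?_
    have : blk g₀.1 φ' w = 0 := Matrix.ext_of_mulVec_single fun j => by
      have := LinearMap.mem_range_self (blk g₀.1 φ' w).mulVecLin (Pi.single j 1)
      rw [← hI, e, Submodule.mem_bot] at this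
      rw [Matrix.zero_mulVec]
      exact this
    exact H.blk_ne_zero hTv hg₀ hnt₀ hφ' hw ho this
  let W : Submodule F (β → F) := LinearMap.ker (Matrix.mulVecLin (Matrix.of fun _ : Fin 1 => φ'))
  have hW : Fintype.card β - 1 ≤ Module.finrank F W := by
    have h1 := LinearMap.finrank_range_add_finrank_ker (Matrix.mulVecLin (Matrix.of fun _ : Fin 1 => φ'))
    have h2 := Submodule.finrank_le (LinearMap.range (Matrix.mulVecLin (Matrix.of fun _ : Fin 1 => φ')))
    rw [Module.finrank_pi] at h1 h2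
    simp only [Fintype.card_fin] at h2
    show _ ≤ Module.finrank F (LinearMap.ker _)
    omega
  have horth : ∀ x : W, φ' ⬝ᵥ (x : β → F) = 0 := fun x => congrFun (LinearMap.mem_ker.1 x.2) 0
  let L : W →ₗ[F] I :=
    LinearMap.codRestrict I
      { toFun := fun x => blk k.1 φ' (x : β → F) *ᵥ v
        map_add' := fun x y => by
          simp only [Submodule.coe_add, blk, kc_add, Matrix.mul_add, Matrix.add_mulVec]
        map_smul' := fun c x => by
          simp only [Submodule.coe_smul, blk, kc_smul, Matrix.mul_smul, Matrix.smul_mulVec, RingHom.id_apply] }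
      (fun x => by
        show blk k.1 φ' (x : β → F) *ᵥ v ∈ I
        rw [(hk3 _ _ (horth x)).1, ← Matrix.mulVec_mulVec]
        exact LinearMap.mem_range_self _ _)
  have hLinj : Function.Injective L := by
    rw [← LinearMap.ker_eq_bot, Submodule.eq_bot_iff]
    intro x hx
    by_contra hx0
    have hx1 : (x : β → F) ≠ 0 := fun e => hx0 (Subtype.ext e)
    exact hv0 (hinj _ hx1 (horth x) v hv (congrArg Subtype.val (LinearMap.mem_ker.1 hx)))
  have := LinearMap.finrank_le_finrank_of_injective hLinj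
  rw [hIr] at this
  omega

end Hyp

end CfsgLib.Classical.TensorMax
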