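import Cfsg.Agent.Lib.Classical.TensorMax.Basic

set_option autoImplicit false
set_option linter.unusedSectionVars false

/-!
If an element fixes a subspace `F^α ⊗ w` then it is a Kronecker product, unless the group contains a
transvection.
-/

namespace CfsgLib.Classical.TensorMax

open Matrix
open scoped MatrixGroups Kronecker

variable {F : Type*} [Field F] {α β : Type} [Fintype α] [DecidableEq α] [Fintype β] [DecidableEq β]

/-- Some element of `M` has this matrix. -/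
def InM (M : Subgroup (GL (α × β) F)) (X : Matrix (α × β) (α × β) F) : Prop := ∃ g ∈ M, g.1 = X

/-- An intermediate group between the tensor stabiliser and `SL`. -/
structure Hyp (M : Subgroup (GL (α × β) F)) : Prop where
  two_le : 2 ≤ Fintype.card α
  lt : Fintype.card α < Fintype.card β
  excl : 3 ≤ Fintype.card α ∨ ∃ t : F, t ≠ 0 ∧ t ≠ 1
  det_one : ∀ g ∈ M, g.1.det = 1
  tens : ∀ g : GL (α × β) F, g.1.det = 1 → Tens g.1 → g ∈ M

/-- `M` has a transvection of pure type. -/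
def HasTv (M : Subgroup (GL (α × β) F)) : Prop :=
  ∃ (u l : α → F) (w ψ : β → F), u ≠ 0 ∧ l ≠ 0 ∧ w ≠ 0 ∧ ψ ≠ 0 ∧ l ⬝ᵥ u = 0 ∧ ψ ⬝ᵥ w = 0 ∧
    ∀ c : F, InM M (1 + (c • Matrix.vecMulVec u l) ⊗ₖ Matrix.vecMulVec w ψ)

/-- The matrices `τ` such that `1 + (· ⊗ w) τ` lies in `M` and is trivial on `F^α ⊗ w`. -/
def InK (M : Subgroup (GL (α × β) F)) (w : β → F) (τ : Matrix α (α × β) F) : Prop :=
  τ * kc α w = 0 ∧ InM M (1 + kc α w * τ)

variable {M : Subgroup (GL (α × β) F)}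

theorem InM.mul {X Y : Matrix (α × β) (α × β) F} (hX : InM M X) (hY : InM M Y) : InM M (X * Y) := by
  obtain ⟨g, hg, rfl⟩ := hX
  obtain ⟨h, hh, rfl⟩ := hY
  exact ⟨g * h, M.mul_mem hg hh, Units.val_mul g h⟩

namespace Hyp

theorem nonempty_left (H : Hyp M) : Nonempty α :=
  Fintype.card_pos_iff.1 (by have := H.two_le; omega)

theorem nonempty_right (H : Hyp M) : Nonempty β :=
  Fintype.card_pos_iff.1 (by have := H.two_le; have := H.lt; omega)

theorem inM_kron (H : Hyp M) {S : Matrix α α F} {T : Matrix β β F} (hS : S.det = 1) (hT : T.det = 1) :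
    InM M (S ⊗ₖ T) := by
  have hd : (S ⊗ₖ T).det = 1 := by rw [Matrix.det_kronecker, hS, hT, one_pow, one_pow, one_mul]
  refine ⟨Matrix.GeneralLinearGroup.mkOfDetNeZero (S ⊗ₖ T) (by rw [hd]; exact one_ne_zero), H.tens _ hd
    ⟨S, T, rfl⟩, rfl⟩

theorem inK_add (H : Hyp M) {w : β → F} {τ τ' : Matrix α (α × β) F} (h : InK M w τ) (h' : InK M w τ') :
    InK M w (τ + τ') := by
  refine ⟨by rw [Matrix.add_mul, h.1, h'.1, add_zero], ?_⟩
  have e : (1 + kc α w * τ) * (1 + kc α w * τ') = 1 + kc α w * (τ + τ') := by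
    rw [Matrix.mul_add, Matrix.add_mul, Matrix.add_mul, Matrix.one_mul, Matrix.one_mul, Matrix.mul_one,
      Matrix.mul_assoc, ← Matrix.mul_assoc τ, h.1, Matrix.zero_mul, Matrix.mul_zero, Matrix.mul_add]
    abel
  exact e ▸ h.2.mul h'.2

theorem inK_kr (H : Hyp M) {w ψ : β → F} (h : ψ ⬝ᵥ w = 0) : InK M w (kr α ψ) := by
  refine ⟨by rw [kr_mul_kc, h, zero_smul], ?_⟩
  have e := H.inM_kron (S := 1) (T := 1 + Matrix.vecMulVec w ψ) Matrix.det_one
    (by rw [det_one_add_vecMulVec, h, add_zero])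
  rwa [Matrix.kronecker_add, Matrix.one_kronecker_one, ← kc_mul_kr] at e

theorem inK_conj (H : Hyp M) {w : β → F} {τ : Matrix α (α × β) F} (h : InK M w τ)
    {S S' : Matrix α α F} {T T' : Matrix β β F} (hS : S.det = 1) (hT : T.det = 1) (eS : S * S' = 1)
    (eT : T * T' = 1) (c : F) (hw : T *ᵥ w = c • w) :
    InK M w (c • (S * τ * (S' ⊗ₖ T'))) := by
  have hS' : S'.det = 1 := by
    have := congrArg Matrix.det eS
    rwa [Matrix.det_mul, hS, one_mul, Matrix.det_one] at this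
  have hT' : T'.det = 1 := by
    have := congrArg Matrix.det eT
    rwa [Matrix.det_mul, hT, one_mul, Matrix.det_one] at this
  constructor
  · have e1 : c • (T' *ᵥ w) = w := by
      rw [← Matrix.mulVec_smul, ← hw, Matrix.mulVec_mulVec, mul_eq_one_comm.1 eT, Matrix.one_mulVec]
    rw [Matrix.smul_mul, Matrix.mul_assoc, kron_mul_kc, ← Matrix.mul_assoc, Matrix.mul_assoc S]
    rw [← Matrix.smul_mul, ← Matrix.mul_smul, ← Matrix.mul_smul, ← kc_smul, e1, h.1, Matrix.mul_zero,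
      Matrix.zero_mul]
  · have e := ((H.inM_kron hS hT).mul h.2).mul (H.inM_kron hS' hT')
    convert e using 1
    rw [Matrix.mul_add, Matrix.mul_one, Matrix.add_mul, ← Matrix.mul_kronecker_mul, eS, eT,
      Matrix.one_kronecker_one, ← Matrix.mul_assoc (S ⊗ₖ T), kron_mul_kc, hw, kc_smul]
    simp only [Matrix.smul_mul, Matrix.mul_smul, Matrix.mul_assoc]

/-- Elements `E` with `E ⊗ ψ` in `K`. -/
theorem inK_scale (H : Hyp M) {w ψ : β → F} (hw : w ≠ 0) (hψ : ψ ≠ 0) (hψw : ψ ⬝ᵥ w = 0) {E : Matrix α α F}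
    (h : InK M w (E * kr α ψ)) (c : F) : InK M w ((c • E) * kr α ψ) := by
  by_cases hc : c = 0
  · refine ⟨by simp [hc], 1, M.one_mem, ?_⟩
    simp [hc]
  obtain ⟨θ, hθ⟩ := exists_dual_one hw
  obtain ⟨z, hz, hz'⟩ := exists_orth ![ψ, θ]
    (by have := H.two_le; have := H.lt; simp [Fintype.card_fin]; omega)
  have z1 : ψ ⬝ᵥ z = 0 := hz' 0
  have z2 : θ ⬝ᵥ z = 0 := hz' 1
  have hwz : ∀ d : F, z ≠ d • w := fun d e => by
    rw [e, dotProduct_smul, hθ, smul_eq_mul, mul_one] at z2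
    exact hz (by rw [e, z2, zero_smul])
  obtain ⟨η, e1, e2⟩ := exists_dual_pair hw hwz 0 1
  let T := (1 + Matrix.vecMulVec ((c - 1) • w) θ) * (1 + Matrix.vecMulVec ((c⁻¹ - 1) • z) η)
  have hT : T.det = 1 := by
    simp only [T, Matrix.det_mul, det_one_add_vecMulVec, dotProduct_smul, hθ, e2, smul_eq_mul, mul_one]
    rw [add_sub_cancel, add_sub_cancel, mul_inv_cancel₀ hc]
  have hTw : T *ᵥ w = c • w := by
    simp only [T, ← Matrix.mulVec_mulVec, one_add_vecMulVec_mulVec, e1, zero_smul, add_zero, hθ, one_smul,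
      sub_smul]
    abel
  have hψT : ψ ᵥ* T = ψ := by
    simp only [T, ← Matrix.vecMul_vecMul, vecMul_one_add_vecMulVec, dotProduct_smul, hψw, z1, smul_zero,
      zero_smul, add_zero]
  have eT : T * T⁻¹ = 1 := Matrix.mul_nonsing_inv _ (by rw [hT]; exact isUnit_one)
  have hψT' : ψ ᵥ* T⁻¹ = ψ := by
    conv_lhs => rw [← hψT]
    rw [Matrix.vecMul_vecMul, eT, Matrix.vecMul_one]
  have e := H.inK_conj h Matrix.det_one hT (Matrix.one_mul 1) eT c hTw
  rw [Matrix.one_mul, Matrix.mul_assoc, kr_mul_kron, hψT', Matrix.one_mul] at e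
  rwa [Matrix.smul_mul]

/-- A non-scalar `E` in the family gives a transvection. -/
theorem hasTv_of_inK (H : Hyp M) {w ψ : β → F} (hw : w ≠ 0) (hψ : ψ ≠ 0) (hψw : ψ ⬝ᵥ w = 0)
    {E : Matrix α α F} (hE : ∀ c : F, E ≠ c • 1) (hin : InK M w (E * kr α ψ)) : HasTv M := by
  haveI := H.nonempty_left
  let D : Matrix α α F → Prop := fun X => InK M w (X * kr α ψ)
  have hadd : ∀ X Y, D X → D Y → D (X + Y) := fun X Y hX hY => by
    show InK M w _
    rw [Matrix.add_mul]; exact H.inK_add hX hY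
  have hsmul : ∀ (c : F) X, D X → D (c • X) := fun c X hX => H.inK_scale hw hψ hψw hX c
  have hsub : ∀ X Y, D X → D Y → D (X - Y) := fun X Y hX hY => by
    rw [sub_eq_add_neg, ← neg_one_smul F Y]; exact hadd _ _ hX (hsmul _ _ hY)
  have hconj : ∀ (N X : Matrix α α F), (∃ u l, N = Matrix.vecMulVec u l ∧ l ⬝ᵥ u = 0) → D X →
      D (N * X - X * N - N * X * N) := by
    rintro N X ⟨u, l, rfl, hlu⟩ hX
    have hNN : Matrix.vecMulVec u l * Matrix.vecMulVec u l = 0 := by
      rw [Matrix.vecMulVec_mul_vecMulVec, hlu]; simp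
    have e := H.inK_conj hX (S := 1 + Matrix.vecMulVec u l) (S' := 1 - Matrix.vecMulVec u l) (T := 1) (T' := 1)
      (by rw [det_one_add_vecMulVec, hlu, add_zero]) Matrix.det_one
      (by rw [Matrix.mul_sub, Matrix.mul_one, Matrix.add_mul, Matrix.one_mul, hNN]; abel)
      (Matrix.one_mul 1) 1 (by rw [Matrix.one_mulVec, one_smul])
    rw [one_smul, Matrix.mul_assoc, Matrix.mul_assoc X, kr_mul_kron, Matrix.vecMul_one,
      ← Matrix.mul_assoc X, ← Matrix.mul_assoc] at e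
    have := hsub _ _ e hX
    convert this using 1
    noncomm_ring
  obtain ⟨u, hu, hEu⟩ := exists_moved hE
  have main : ∀ l : α → F, l ≠ 0 → l ⬝ᵥ u = 0 → D (Matrix.vecMulVec u l) → HasTv M := by
    intro l hl hlu hD
    refine ⟨u, l, w, ψ, hu, hl, hw, hψ, hlu, hψw, fun c => ?_⟩
    have e := (hsmul c _ hD).2
    rwa [← Matrix.mul_assoc, kc_mul_mul_kr] at e
  rcases H.excl with h3 | ⟨t, ht, ht1⟩
  · obtain ⟨l, hl, hl'⟩ := exists_orth ![u, E *ᵥ u] (by simp [Fintype.card_fin]; omega)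
    have l1 : l ⬝ᵥ u = 0 := by rw [dotProduct_comm]; exact hl' 0
    have l2 : l ⬝ᵥ (E *ᵥ u) = 0 := by rw [dotProduct_comm]; exact hl' 1
    obtain ⟨m, m1, m2⟩ := exists_dual_pair hu hEu 0 1
    set N := Matrix.vecMulVec u l with hN
    set N' := Matrix.vecMulVec u m with hN'
    have z1 : D (N * E - E * N) := by
      have := hconj N E ⟨u, l, rfl, l1⟩ hin
      rwa [show N * E * N = 0 by
        rw [hN, Matrix.mul_assoc, Matrix.mul_vecMulVec, Matrix.vecMulVec_mul_vecMulVec, l2]; simp,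
        sub_zero] at this
    have z2 : (N * E - E * N) * N' = 0 := by
      rw [Matrix.sub_mul, Matrix.mul_assoc, Matrix.mul_assoc, hN, hN', Matrix.mul_vecMulVec E u m,
        Matrix.vecMulVec_mul_vecMulVec, Matrix.vecMulVec_mul_vecMulVec, l1, l2]
      simp
    have z3 := hconj N' _ ⟨u, m, rfl, m1⟩ z1
    rw [z2, sub_zero, Matrix.mul_assoc N' (N * E - E * N), z2, Matrix.mul_zero, sub_zero] at z3
    have z4 : N' * (N * E - E * N) = (-1 : F) • N := by
      rw [Matrix.mul_sub, ← Matrix.mul_assoc, ← Matrix.mul_assoc, hN', hN, Matrix.vecMulVec_mul_vecMulVec, m1,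
        Matrix.mul_assoc, Matrix.mul_vecMulVec, Matrix.vecMulVec_mul_vecMulVec, m2]
      simp
    rw [z4] at z3
    refine main l hl l1 ?_
    have := hsmul (-1) _ z3
    rwa [smul_smul, neg_one_mul, neg_neg, one_smul] at this
  · obtain ⟨l, l1, l2⟩ := exists_dual_pair hu hEu 0 1
    set N := Matrix.vecMulVec u l with hN
    have hl : l ≠ 0 := fun e => by simp [e] at l2
    have hNEN : N * E * N = N := by
      rw [hN, Matrix.mul_assoc, Matrix.mul_vecMulVec, Matrix.vecMulVec_mul_vecMulVec, l2, one_smul]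
    have f1 := hconj N E ⟨u, l, rfl, l1⟩ hin
    have f2 := hconj (t • N) E ⟨t • u, l, by rw [hN, Matrix.smul_vecMulVec], by rw [dotProduct_smul, l1, smul_zero]⟩ hin
    have := hsub _ _ f2 (hsmul t _ f1)
    have e : t • N * E - E * (t • N) - t • N * E * (t • N) - t • (N * E - E * N - N * E * N) =
        (t - t * t) • N := by
      simp only [Matrix.smul_mul, Matrix.mul_smul, smul_sub, smul_smul, hNEN, sub_smul]
      abel
    rw [e] at this
    refine main l hl l1 ?_
    have := hsmul (t - t * t)⁻¹ _ this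
    rwa [smul_smul, inv_mul_cancel₀ (sub_ne_zero.2 fun e => ht1 ((mul_right_eq_self₀.1 e.symm).resolve_right ht)), one_smul] at this

/-- If `K` is not minimal there is a transvection. -/
theorem inK_eq_kr (H : Hyp M) (hTv : ¬ HasTv M) {w : β → F} (hw : w ≠ 0) {τ : Matrix α (α × β) F}
    (h : InK M w τ) : ∃ ψ : β → F, ψ ⬝ᵥ w = 0 ∧ τ = kr α ψ := by
  haveI := H.nonempty_left
  by_cases hall : ∀ v : β → F, ∃ c : F, τ * kc α v = c • (1 : Matrix α α F)
  · choose c hc using hall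
    have e : τ = kr α (fun k => c (Pi.single k 1)) := by
      refine eq_of_mul_kc_single fun k => ?_
      rw [hc, kr_mul_kc, dotProduct_single, mul_one]
    refine ⟨_, ?_, e⟩
    have h0 := h.1
    rw [e, kr_mul_kc] at h0
    by_contra h1
    obtain ⟨i⟩ := H.nonempty_left
    have := congrFun₂ h0 i i
    simp only [Matrix.smul_apply, Matrix.one_apply_eq, smul_eq_mul, mul_one, Matrix.zero_apply] at this
    exact h1 this
  push Not at hall
  obtain ⟨v, hv⟩ := hall
  obtain ⟨ψ, hψ, hψ'⟩ := exists_orth ![w, v]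
    (by have := H.two_le; have := H.lt; simp [Fintype.card_fin]; omega)
  have p1 : ψ ⬝ᵥ w = 0 := by rw [dotProduct_comm]; exact hψ' 0
  have p2 : ψ ⬝ᵥ v = 0 := by rw [dotProduct_comm]; exact hψ' 1
  have p3 : Matrix.vecMulVec v ψ * Matrix.vecMulVec v ψ = 0 := by
    rw [Matrix.vecMulVec_mul_vecMulVec, p2]; simp
  have e := H.inK_conj h (S := 1) (S' := 1) (T := 1 - Matrix.vecMulVec v ψ) (T' := 1 + Matrix.vecMulVec v ψ)
    Matrix.det_one
    (by rw [sub_eq_add_neg, ← Matrix.neg_vecMulVec, det_one_add_vecMulVec, dotProduct_neg, p2, neg_zero, add_zero])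
    (Matrix.one_mul 1) (by rw [Matrix.sub_mul, Matrix.mul_add, Matrix.mul_add, p3]; simp)
    1 (by rw [Matrix.sub_mulVec, Matrix.one_mulVec, Matrix.vecMulVec_mulVec, p1]; simp)
  rw [one_smul, Matrix.one_mul, Matrix.kronecker_add, Matrix.one_kronecker_one, Matrix.mul_add, Matrix.mul_one,
    ← kc_mul_kr, ← Matrix.mul_assoc] at e
  have hneg : InK M w ((-1 : F) • τ) := by
    obtain ⟨g, hg, hg'⟩ := h.2
    refine ⟨by rw [Matrix.smul_mul, h.1, smul_zero], g⁻¹, M.inv_mem hg, ?_⟩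
    refine Units.inv_eq_of_mul_eq_one_right ?_
    rw [hg', Matrix.mul_add, Matrix.mul_one, Matrix.add_mul, Matrix.one_mul, Matrix.mul_assoc,
      ← Matrix.mul_assoc τ, h.1]
    simp
  have e2 := H.inK_add e hneg
  rw [neg_one_smul, add_right_comm, add_neg_cancel, zero_add] at e2
  exact absurd (H.hasTv_of_inK hw hψ p1 hv e2) hTv

end Hyp

end CfsgLib.Classical.TensorMax
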